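import Cfsg.Agent.Helper96.L34.Perm1.All
import Cfsg.Agent.Helper96.L34.Pres
set_option autoImplicit false
set_option maxRecDepth 1000000
namespace Cfsg.Agent.Helper96.L34.Perm1
open Cfsg.Agent.Helper28 Cfsg.Spor

/-- generator with a given index -/
def gen : Nat → Cfsg.Agent.Helper96.L34.PE.Gen
  | 0 => .x | 1 => .p | 2 => .w | 3 => .a | _ => .b

/-- index of a generator -/
def idx : Cfsg.Agent.Helper96.L34.PE.Gen → Nat
  | .x => 0 | .p => 1 | .w => 2 | .a => 3 | .b => 4

/-- no subgroup generators -/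
def Ylist : List (FreeGroup Cfsg.Agent.Helper96.L34.PE.Gen) := []

theorem hY_ok : ∀ s, s < tabs.nsub → ev gen 5 (tabs.word s) = Ylist.getD s 1 := by
  intro s hs; exact absurd hs (Nat.not_lt_zero s)

theorem hcoxw_ok : ∀ ix, ix < 5 → ∀ iy, iy < 5 →
    tabs.word (tabs.nsub + ix * 5 + iy) = coxW ix iy (lab Cfsg.Agent.Helper96.L34.PE.edges gen ix iy) := by
  decide +kernel

theorem hextra_ok : ∀ j, j < Cfsg.Agent.Helper96.L34.PE.extra.length →
    ev gen 5 (tabs.word (tabs.nsub + 5 * 5 + j)) = Cfsg.Agent.Helper96.L34.PE.extra.getD j 1 := by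
  decide +kernel

theorem htriv_ok : ∀ l, l < 2 * 5 →
    tabs.word (tabs.nsub + 5 * 5 + Cfsg.Agent.Helper96.L34.PE.extra.length + l) = [l, flipL l] := by
  decide +kernel

theorem hletters_ok : ∀ r, r < tabs.nwords → ∀ l ∈ tabs.word r, l < ptabs.L := by
  decide +kernel

theorem layout : Layout Cfsg.Agent.Helper96.L34.PE.edges Cfsg.Agent.Helper96.L34.PE.extra Ylist gen idx 5 tabs ptabs where
  hngen := by decide
  hgi := by intro a; cases a <;> exact ⟨by decide, rfl⟩
  hig := by decide
  hnsub := by decide +kernel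
  hY := hY_ok
  hcoxw := hcoxw_ok
  hextra := hextra_ok
  htriv := htriv_ok
  hempty := by decide +kernel
  hnwords := by decide +kernel
  hL := by decide +kernel
  hletters := hletters_ok

/-- the relators -/
abbrev R : Set (FreeGroup Cfsg.Agent.Helper96.L34.PE.Gen) := coxRels Cfsg.Agent.Helper96.L34.PE.edges Cfsg.Agent.Helper96.L34.PE.extra

theorem hperm_all : ∀ r, tabs.nsub ≤ r → r < tabs.nsub + 5 * 5 + Cfsg.Agent.Helper96.L34.PE.extra.length →
    relOk ptabs (tabs.word r) 0 ptabs.n = true := by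
  intro r h1 h2
  exact perm_all r h1 h2

theorem hn : 0 < ptabs.n := by decide +kernel

theorem hrels : ∀ r ∈ R, rhoF idx 5 ptabs inv_ok layout.hL r = 1 :=
  layout.hrels inv_ok hperm_all

/-- the permutation representation of the presented group on `448` points -/
noncomputable def rho : PresentedGroup R →* Equiv.Perm (Fin ptabs.n) :=
  rhoG R idx 5 ptabs inv_ok layout.hL hrels

end Cfsg.Agent.Helper96.L34.Perm1
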