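import Cfsg.Agent.Helper96.L34.Perm1.Misc
import Cfsg.Agent.Helper96.L34.Perm1.Perm0
import Cfsg.Agent.Helper96.L34.Perm1.Perm1
import Cfsg.Agent.Helper96.L34.Perm1.Perm2
import Cfsg.Agent.Helper96.L34.Perm1.Perm3
import Cfsg.Agent.Helper96.L34.Perm1.Perm4
set_option autoImplicit false
namespace Cfsg.Agent.Helper96.L34.Perm1
open Cfsg.Agent.Helper28
theorem perm_all : ∀ r, 0 ≤ r → r < 55 → relOk ptabs (tabs.word r) 0 ptabs.n = true := by
  intro r h1 h2
  by_cases c25 : r < 25
  · exact permRange_sound ptabs tabs.word letTr.get 9 511 perm_eq 0 25 perm_ok_0 r (by omega) (by omega)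
  by_cases c33 : r < 33
  · exact permRange_sound ptabs tabs.word letTr.get 9 511 perm_eq 25 8 perm_ok_25 r (by omega) (by omega)
  by_cases c41 : r < 41
  · exact permRange_sound ptabs tabs.word letTr.get 9 511 perm_eq 33 8 perm_ok_33 r (by omega) (by omega)
  by_cases c49 : r < 49
  · exact permRange_sound ptabs tabs.word letTr.get 9 511 perm_eq 41 8 perm_ok_41 r (by omega) (by omega)
  by_cases c55 : r < 55
  · exact permRange_sound ptabs tabs.word letTr.get 9 511 perm_eq 49 6 perm_ok_49 r (by omega) (by omega)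
  omega
end Cfsg.Agent.Helper96.L34.Perm1
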